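import Cfsg.Agent.Lib.Classical.Herm.Std
import Cfsg.Agent.Lib.Classical.Herm.ThreeTI

/-!
Involutions of three-dimensional unitary groups in odd characteristic and non-isotropic points.
-/

set_option autoImplicit false

namespace CfsgLib.UnitaryPoints

open Module CfsgLib.Classical.Herm HermSpace

variable {F V : Type*} [Field F] [AddCommGroup V] [Module F V] [FiniteDimensional F V]
  {H : HermSpace F V}

theorem ne_zero_of_unit {e : V} (he : H.h e e = 1) : e ≠ 0 := fun h => by
  rw [h, H.zero_left] at he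
  exact zero_ne_one he

theorem smul_h_smul {e : V} (he : H.h e e = 1) (c : F) : H.h (c • e) (c • e) = c * H.conj c := by
  rw [H.smul_left, H.smul_right, he, mul_one]

/-- Multiplication by `-1`. -/
def negU (H : HermSpace F V) : Unit' H :=
  ⟨LinearEquiv.neg F, fun x y => by simp [H.neg_left, H.neg_right]⟩

theorem shearCond_neg_two {e : V} (he : H.h e e = 1) : ShearCond H e (-2) := by
  unfold ShearCond
  rw [he, map_neg, map_ofNat]
  ring

/-- The involution fixing `e` and negating its orthogonal complement. -/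
def ref (e : V) (he : H.h e e = 1) : Unit' H :=
  negU H * shear H e (-2) (shearCond_neg_two he)

theorem ref_apply {e : V} (he : H.h e e = 1) (x : V) :
    (ref e he).1 x = (2 * H.h x e) • e - x := by
  show -(x + (-2 * H.h x e) • e) = _
  rw [neg_mul, neg_smul]
  abel

theorem ref_self {e : V} (he : H.h e e = 1) : (ref e he).1 e = e := by
  rw [ref_apply, he, mul_one, two_smul]
  abel

theorem ref_mul_self {e : V} (he : H.h e e = 1) : ref e he * ref e he = 1 := unit_ext fun x => by
  rw [mul_apply, ref_apply he, ref_apply he, one_apply, H.sub_left, H.smul_left, he, mul_one,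
    show 2 * (2 * H.h x e - H.h x e) = 2 * H.h x e by ring]
  abel

theorem detHom_ref (hd : finrank F V = 3) {e : V} (he : H.h e e = 1) : detHom H (ref e he) = 1 := by
  apply Units.ext
  rw [ref, map_mul, Units.val_mul, detHom_shear, he]
  show (LinearEquiv.det (LinearEquiv.neg F : V ≃ₗ[F] V) : F) * _ = 1
  rw [LinearEquiv.coe_det,
    show ((LinearEquiv.neg F : V ≃ₗ[F] V) : V →ₗ[F] V) = (-1 : F) • LinearMap.id from
      LinearMap.ext fun x => by simp,
    LinearMap.det_smul, LinearMap.det_id, hd]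
  norm_num

theorem ref_ne_one (h2 : (2 : F) ≠ 0) (hd : finrank F V = 3) {e : V} (he : H.h e e = 1) :
    ref e he ≠ 1 := by
  intro h
  have hx : ∀ x : V, x = (H.h x e) • e := fun x => by
    have := congrArg (fun g : Unit' H => g.1 x) h
    simp only [ref_apply he, one_apply] at this
    rw [mul_smul, sub_eq_iff_eq_add, ← two_smul F x] at this
    exact (smul_right_injective V h2 this).symm
  have : finrank F V ≤ 1 := finrank_le_one e fun x => ⟨_, (hx x).symm⟩
  omega

theorem ref_conj (g : Unit' H) {e : V} (he : H.h e e = 1) :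
    g * ref e he * g⁻¹ = ref (g.1 e) (by rw [unit_h]; exact he) := by
  rw [mul_inv_eq_iff_eq_mul]
  refine unit_ext fun x => ?_
  rw [mul_apply, mul_apply, ref_apply, ref_apply, unit_h, map_sub, map_smul]

/-- Two involutions agree exactly when the points do. -/
theorem ref_eq_iff (h2 : (2 : F) ≠ 0) {e f : V} (he : H.h e e = 1) (hf : H.h f f = 1) :
    ref e he = ref f hf ↔ ∃ c : F, c * H.conj c = 1 ∧ f = c • e := by
  constructor
  · intro h
    have h' := congrArg (fun g : Unit' H => g.1 f) h
    simp only [ref_self, ref_apply he] at h'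
    rw [sub_eq_iff_eq_add, mul_smul, ← two_smul F f] at h'
    have h' := (smul_right_injective V h2 h').symm
    refine ⟨H.h f e, ?_, h'⟩
    rw [← smul_h_smul he, ← h', hf]
  · rintro ⟨c, hc, rfl⟩
    refine unit_ext fun x => ?_
    rw [ref_apply, ref_apply, H.smul_right, smul_smul]
    congr 2
    linear_combination (-2 * H.h x e) * hc

/-- Commuting involutions belong to equal or orthogonal points. -/
theorem commute_iff (h2 : (2 : F) ≠ 0) {e f : V} (he : H.h e e = 1) (hf : H.h f f = 1) :
    Commute (ref e he) (ref f hf) ↔ ref e he = ref f hf ∨ H.h e f = 0 := by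
  constructor
  · intro h
    rw [or_iff_not_imp_right]
    intro hne
    have hc := ref_conj (ref e he) hf
    rw [h.eq, mul_inv_cancel_right] at hc
    obtain ⟨c, -, hcf⟩ := (ref_eq_iff h2 hf _).1 hc
    rw [ref_apply he, sub_eq_iff_eq_add] at hcf
    have hfe : H.h f e ≠ 0 := fun h0 => hne (H.h_comm_zero h0)
    obtain ⟨d, hd⟩ : ∃ d : F, f = d • e := by
      by_cases h1 : c + 1 = 0
      · exfalso
        have h3 : (2 * H.h f e) • e = (0 : F) • f := by rw [← h1, add_smul, one_smul]; exact hcf
        rw [zero_smul, smul_eq_zero] at h3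
        exact h3.elim (mul_ne_zero h2 hfe) (ne_zero_of_unit he)
      · refine ⟨(c + 1)⁻¹ * (2 * H.h f e), ?_⟩
        rw [mul_smul, hcf, ← one_smul F f, smul_smul, ← add_smul, smul_smul, one_smul, mul_one,
          inv_mul_cancel₀ h1, one_smul]
    refine (ref_eq_iff h2 he hf).2 ⟨d, ?_, hd⟩
    rw [← smul_h_smul he, ← hd, hf]
  · rintro (h | h)
    · rw [h]
    · refine unit_ext fun x => ?_
      rw [mul_apply, mul_apply, ref_apply hf, ref_apply he, ref_apply he, ref_apply hf, H.sub_left,
        H.sub_left, H.smul_left, H.smul_left, h, H.h_comm_zero h]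
      module

/-- An anisotropic vector can be normalised. -/
theorem exists_normalize {v : V} (hv : H.h v v ≠ 0) : ∃ c : F, c ≠ 0 ∧ H.h (c • v) (c • v) = 1 := by
  obtain ⟨t, ht⟩ := H.norm_surj (H.h v v)⁻¹ (by rw [map_inv₀, H.conj_diag])
  refine ⟨t, fun h0 => ?_, ?_⟩
  · rw [h0, zero_mul] at ht
    exact inv_ne_zero hv ht.symm
  · rw [H.smul_left, H.smul_right, ← mul_assoc, ht, inv_mul_cancel₀ hv]

/-- Every involution of determinant one belongs to a point. -/
theorem exists_ref (h2 : (2 : F) ≠ 0) (hd : finrank F V = 3) (t : Unit' H) (hdet : detHom H t = 1)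
    (ht : t ≠ 1) (ht2 : t * t = 1) : ∃ (e : V) (he : H.h e e = 1), t = ref e he := by
  let W : Submodule F V := LinearMap.ker ((t.1 : V →ₗ[F] V) - 1)
  have hW : ∀ x, x ∈ W ↔ t.1 x = x := fun x => by simp [W, sub_eq_zero]
  have htt : ∀ x, t.1 (t.1 x) = x := fun x => congrArg (fun g : Unit' H => g.1 x) ht2
  have hplus : ∀ x, x + t.1 x ∈ W := fun x => by rw [hW, map_add, htt, add_comm]
  have hinv : W ≤ W.comap (t.1 : V →ₗ[F] V) := fun x hx => by
    show t.1 x ∈ W
    rwa [(hW x).1 hx]
  have hdd : (LinearEquiv.det t.1 : F) = 1 := congrArg Units.val hdet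
  rw [LinearEquiv.coe_det, LinearMap.det_eq_det_mul_det W _ hinv,
    show (t.1 : V →ₗ[F] V).restrict hinv = LinearMap.id from
      LinearMap.ext fun x => Subtype.ext ((hW x.1).1 x.2),
    show W.mapQ W (t.1 : V →ₗ[F] V) hinv = (-1 : F) • LinearMap.id from
      Submodule.linearMap_qext _ (LinearMap.ext fun x => by
        show Submodule.Quotient.mk (t.1 x) = (-1 : F) • (Submodule.Quotient.mk x : V ⧸ W)
        rw [← Submodule.Quotient.mk_smul, Submodule.Quotient.eq, neg_one_smul, sub_neg_eq_add, add_comm]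
        exact hplus x),
    LinearMap.det_id, one_mul, LinearMap.det_smul, LinearMap.det_id, mul_one] at hdd
  have hsum := W.finrank_quotient_add_finrank
  rw [hd] at hsum
  have hev : Even (finrank F (V ⧸ W)) := by
    rcases Nat.even_or_odd (finrank F (V ⧸ W)) with h | h
    · exact h
    · rw [h.neg_one_pow] at hdd
      exact absurd (show (2 : F) = 0 by linear_combination -hdd) h2
  have h1 : finrank F W = 1 := by
    obtain ⟨k, hk⟩ := hev
    have : k ≤ 1 := by omega
    rcases k with _ | _ | k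
    · exfalso
      apply ht
      refine unit_ext fun x => (hW x).1 ?_
      rw [Submodule.eq_top_of_finrank_eq (S := W) (by omega)]
      trivial
    · omega
    · omega
  obtain ⟨u, hu0, hspan⟩ := finrank_eq_one_iff'.1 h1
  have hu : t.1 u.1 = u.1 := (hW _).1 u.2
  have hcoef : ∀ x, ∃ c : F, x + t.1 x = c • u.1 := fun x => by
    obtain ⟨c, hc⟩ := hspan ⟨_, hplus x⟩
    exact ⟨c, (congrArg Subtype.val hc).symm⟩
  have huu : H.h u.1 u.1 ≠ 0 := by
    intro h0
    refine hu0 (Subtype.ext (H.nondeg _ fun y => ?_))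
    obtain ⟨c, hc⟩ := hcoef y
    have h3 : H.h u.1 (y + t.1 y) = 2 * H.h u.1 y := by
      rw [H.add_right]
      nth_rewrite 2 [← hu]
      rw [unit_h]
      ring
    rw [hc, H.smul_right, h0, mul_zero] at h3
    exact (mul_eq_zero.1 h3.symm).resolve_left h2
  obtain ⟨a, ha, hae⟩ := exists_normalize huu
  refine ⟨a • u.1, hae, unit_ext fun x => ?_⟩
  rw [ref_apply]
  obtain ⟨c, hc⟩ := hcoef x
  have hte : t.1 (a • u.1) = a • u.1 := by rw [map_smul, hu]
  have hh : 2 * H.h x (a • u.1) = c * a⁻¹ := by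
    have h3 : H.h (x + t.1 x) (a • u.1) = 2 * H.h x (a • u.1) := by
      rw [H.add_left]
      nth_rewrite 2 [← hte]
      rw [unit_h]
      ring
    rw [← h3, hc, show c • u.1 = (c * a⁻¹) • a • u.1 by rw [smul_smul, inv_mul_cancel_right₀ ha],
      H.smul_left, hae, mul_one]
  rw [hh, smul_smul, inv_mul_cancel_right₀ ha, ← hc]
  abel

/-- A point orthogonal to two given points spanning a non-degenerate line. -/
theorem exists_unit_perp (hd : finrank F V = 3) {e f : V} (he : H.h e e = 1) (hf : H.h f f = 1)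
    (hne : H.h f e * H.h e f ≠ 1) : ∃ g : V, H.h g g = 1 ∧ H.h g e = 0 ∧ H.h g f = 0 := by
  have hind : ∀ c : F, c • e ≠ f := fun c h => hne (by
    subst h
    rw [smul_h_smul he] at hf
    rw [H.smul_left, H.smul_right, he, mul_one, mul_one, hf])
  have h1 := finrank_perp₂ (H := H) hd (ne_zero_of_unit he) hind
  obtain ⟨g, hg0, hspan⟩ := finrank_eq_one_iff'.1 h1
  obtain ⟨hgf, hge⟩ := mem_perp₂.1 g.2
  have hgg : H.h g.1 g.1 ≠ 0 := by
    intro h0
    refine hg0 (Subtype.ext (H.nondeg _ fun y => ?_))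
    set d : F := 1 - H.h f e * H.h e f with hd'
    have hd0 : d ≠ 0 := sub_ne_zero.2 (Ne.symm hne)
    let β : F := (H.h y f - H.h y e * H.h e f) / d
    let z : V := y - H.h y e • e - β • (f - H.h f e • e)
    have hze : H.h z e = 0 := by
      simp only [z, H.sub_left, H.smul_left, he]
      ring
    have hzf : H.h z f = 0 := by
      simp only [z, β, H.sub_left, H.smul_left, hf]
      field_simp
      rw [hd']
      ring
    obtain ⟨c, hc⟩ := hspan ⟨z, mem_perp₂.2 ⟨hzf, hze⟩⟩
    have hc' : c • g.1 = z := congrArg Subtype.val hc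
    have h3 : H.h g.1 z = 0 := by rw [← hc', H.smul_right, h0, mul_zero]
    simp only [z, H.sub_right, H.smul_right, hge, hgf, mul_zero, sub_zero] at h3
    exact h3
  obtain ⟨c, -, hc⟩ := exists_normalize hgg
  exact ⟨c • g.1, hc, by rw [H.smul_left, hge, mul_zero], by rw [H.smul_left, hgf, mul_zero]⟩

/-- The common orthogonal point is unique. -/
theorem ref_eq_of_perp (h2 : (2 : F) ≠ 0) (hd : finrank F V = 3) {e f g g' : V} (he : H.h e e = 1)
    (hind : ∀ c : F, c • e ≠ f) (hg : H.h g g = 1) (hg' : H.h g' g' = 1)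
    (h1 : H.h g f = 0) (h3 : H.h g e = 0) (h4 : H.h g' f = 0) (h5 : H.h g' e = 0) :
    ref g hg = ref g' hg' := by
  obtain ⟨c, hc⟩ := exists_smul_of_mem_perp₂ (H := H) hd (ne_zero_of_unit he) hind
    (mem_perp₂.2 ⟨h1, h3⟩ : g ∈ perp₂ H f e) (ne_zero_of_unit hg) (mem_perp₂.2 ⟨h4, h5⟩)
  refine (ref_eq_iff h2 hg hg').2 ⟨c, ?_, hc⟩
  rw [← smul_h_smul hg, ← hc, hg']

end CfsgLib.UnitaryPoints
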