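import Cfsg.Agent.Lib.UnitaryPoints.Three

/-!
The commuting graph on the involutions of `SU₃(q)`, `q` odd.
-/

set_option autoImplicit false

namespace CfsgLib.UnitaryPoints

open Module CfsgLib.Classical.Herm HermSpace

variable {F : Type*} [Field F] [Fintype F] {q : ℕ}
variable (hq : Odd q) (hF : Fintype.card F = q ^ 2)
include hq hF

/-- Two commuting involutions have a unique further common neighbour. -/
theorem exists_unique_third {t x : Cfsg.SU 3 F q} (ht : IsInv t) (hx : IsInv x) (hne : x ≠ t)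
    (hc : Commute t x) :
    ∃ z, (IsInv z ∧ z ≠ t ∧ z ≠ x ∧ Commute t z ∧ Commute x z) ∧
      ∀ y, IsInv y → y ≠ t → y ≠ x → Commute t y → Commute x y → y = z := by
  obtain ⟨e, he, rfl⟩ := exists_pt hq hF ht
  obtain ⟨f, hf, rfl⟩ := exists_pt hq hF hx
  have h := ((pt_commute_iff hq hF e f he hf).1 hc).resolve_left (Ne.symm hne)
  obtain ⟨g, hg, hge, hgf⟩ := exists_unit_perp finrank_std he hf (by rw [h, mul_zero]; exact zero_ne_one)
  refine ⟨pt hF g hg, ⟨isInv_pt hq hF g hg, pt_ne_of_perp hq hF hg he hge,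
    pt_ne_of_perp hq hF hg hf hgf, ((pt_commute_iff hq hF g e hg he).2 (Or.inr hge)).symm,
    ((pt_commute_iff hq hF g f hg hf).2 (Or.inr hgf)).symm⟩, ?_⟩
  intro y hy hyt hyx hty hxy
  obtain ⟨g', hg', rfl⟩ := exists_pt hq hF hy
  refine su_ext hF ?_
  rw [pt_val, pt_val]
  refine ref_eq_of_perp (two_ne_zero_of_odd hq hF) finrank_std he ?_ hg' hg ?_ ?_ hgf hge
  · intro c hce
    subst hce
    rw [(stdHerm hF 3).smul_right, he, mul_one] at h
    rw [smul_h_smul he, h, mul_zero] at hf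
    exact zero_ne_one hf
  · exact ((pt_commute_iff hq hF g' f hg' hf).1 hxy.symm).resolve_left hyx
  · exact ((pt_commute_iff hq hF g' e hg' he).1 hty.symm).resolve_left hyt

theorem card_third {t x : Cfsg.SU 3 F q} (ht : IsInv t) (hx : IsInv x) (hne : x ≠ t)
    (hc : Commute t x) :
    Nat.card {y : Cfsg.SU 3 F q //
      y ≠ 1 ∧ y * y = 1 ∧ y ≠ t ∧ y ≠ x ∧ Commute t y ∧ Commute x y} = 1 := by
  obtain ⟨z, hz, huniq⟩ := exists_unique_third hq hF ht hx hne hc
  rw [Nat.card_eq_one_iff_unique]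
  refine ⟨⟨fun a b => Subtype.ext ?_⟩, ⟨⟨z, hz.1.1, hz.1.2, hz.2⟩⟩⟩
  obtain ⟨a, a1, a2, a3, a4, a5, a6⟩ := a
  obtain ⟨b, b1, b2, b3, b4, b5, b6⟩ := b
  exact (huniq a ⟨a1, a2⟩ a3 a4 a5 a6).trans (huniq b ⟨b1, b2⟩ b3 b4 b5 b6).symm

/-- Non-commuting involutions have at most one common neighbour. -/
theorem neighbour_unique {t x y y' : Cfsg.SU 3 F q} (ht : IsInv t) (hx : IsInv x)
    (hn : ¬ Commute t x) (hy : IsInv y) (hy' : IsInv y')
    (h1 : Commute t y) (h2 : Commute y x) (h3 : Commute t y') (h4 : Commute y' x) : y = y' := by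
  obtain ⟨e, he, rfl⟩ := exists_pt hq hF ht
  obtain ⟨f, hf, rfl⟩ := exists_pt hq hF hx
  obtain ⟨g, hg, rfl⟩ := exists_pt hq hF hy
  obtain ⟨g', hg', rfl⟩ := exists_pt hq hF hy'
  refine su_ext hF ?_
  rw [pt_val, pt_val]
  refine ref_eq_of_perp (f := f) (two_ne_zero_of_odd hq hF) finrank_std he ?_ hg hg' ?_ ?_ ?_ ?_
  · intro c hce
    subst hce
    apply hn
    rw [(pt_eq_iff hq hF e (c • e) he hf).2 ⟨c, by rw [← smul_h_smul he]; exact hf, rfl⟩]
  · exact ((pt_commute_iff hq hF g f hg hf).1 h2).resolve_left (fun h => hn (h ▸ h1))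
  · exact ((pt_commute_iff hq hF g e hg he).1 h1.symm).resolve_left (fun h => hn (h.symm ▸ h2))
  · exact ((pt_commute_iff hq hF g' f hg' hf).1 h4).resolve_left (fun h => hn (h ▸ h3))
  · exact ((pt_commute_iff hq hF g' e hg' he).1 h3.symm).resolve_left (fun h => hn (h.symm ▸ h4))

/-- The commuting graph has diameter at most three. -/
theorem exists_path {t x : Cfsg.SU 3 F q} (ht : IsInv t) (hx : IsInv x) :
    ∃ y z : Cfsg.SU 3 F q, IsInv y ∧ IsInv z ∧ Commute t y ∧ Commute y z ∧ Commute z x := by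
  obtain ⟨e, he, rfl⟩ := exists_pt hq hF ht
  obtain ⟨f, hf, rfl⟩ := exists_pt hq hF hx
  have perp : ∀ (a b : Fin 3 → F) (ha : (stdHerm hF 3).h a a = 1) (hb : (stdHerm hF 3).h b b = 1),
      (stdHerm hF 3).h a b = 0 → Commute (pt hF a ha) (pt hF b hb) :=
    fun a b ha hb h => (pt_commute_iff hq hF a b ha hb).2 (Or.inr h)
  by_cases hN : (stdHerm hF 3).h f e * (stdHerm hF 3).h e f = 1
  swap
  · obtain ⟨g, hg, hge, hgf⟩ := exists_unit_perp finrank_std he hf hN
    exact ⟨_, _, isInv_pt hq hF g hg, isInv_pt hq hF g hg, (perp g e hg he hge).symm, Commute.refl _,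
      perp g f hg hf hgf⟩
  -- the line through the two points is degenerate
  have hq2 := two_le_of_card hF
  obtain ⟨⟨y, hy, hyt, hty⟩⟩ : Nonempty {s : Cfsg.SU 3 F q //
      IsInv s ∧ s ≠ pt hF e he ∧ Commute (pt hF e he) s} := (Nat.card_pos_iff.1 (by
    rw [card_commute hq hF (isInv_pt hq hF e he)]
    exact Nat.mul_pos (by omega) (by omega))).1
  obtain ⟨r, hr, rfl⟩ := exists_pt hq hF hy
  have her : (stdHerm hF 3).h e r = 0 :=
    ((pt_commute_iff hq hF e r he hr).1 hty).resolve_left (Ne.symm hyt)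
  by_cases hNr : (stdHerm hF 3).h f r * (stdHerm hF 3).h r f = 1
  swap
  · obtain ⟨g, hg, hgr, hgf⟩ := exists_unit_perp finrank_std hr hf hNr
    exact ⟨_, _, hy, isInv_pt hq hF g hg, hty, (perp g r hg hr hgr).symm, perp g f hg hf hgf⟩
  obtain ⟨s, hs, hse, hsr⟩ := exists_unit_perp finrank_std he hr
    (by rw [her, mul_zero]; exact zero_ne_one)
  have hNs : (stdHerm hF 3).h f s * (stdHerm hF 3).h s f ≠ 1 := by
    intro h
    obtain ⟨w, hw⟩ : ∃ w, w = f - (stdHerm hF 3).h f e • e - (stdHerm hF 3).h f r • r -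
        (stdHerm hF 3).h f s • s := ⟨_, rfl⟩
    have hwe : (stdHerm hF 3).h w e = 0 := by
      simp only [hw, HermSpace.sub_left, (stdHerm hF 3).smul_left, he, (stdHerm hF 3).h_comm_zero her, hse]
      ring
    have hwr : (stdHerm hF 3).h w r = 0 := by
      simp only [hw, HermSpace.sub_left, (stdHerm hF 3).smul_left, hr, her, hsr]
      ring
    have hws : (stdHerm hF 3).h w s = 0 := by
      simp only [hw, HermSpace.sub_left, (stdHerm hF 3).smul_left, hs, (stdHerm hF 3).h_comm_zero hse,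
        (stdHerm hF 3).h_comm_zero hsr]
      ring
    have hind : ∀ c : F, c • e ≠ r := fun c hce => by
      subst hce
      rw [(stdHerm hF 3).smul_right, he, mul_one] at her
      rw [smul_h_smul he, her, mul_zero] at hr
      exact zero_ne_one hr
    obtain ⟨c, hc⟩ := exists_smul_of_mem_perp₂ (H := stdHerm hF 3) finrank_std (ne_zero_of_unit he) hind
      (mem_perp₂.2 ⟨hsr, hse⟩ : s ∈ perp₂ (stdHerm hF 3) r e) (ne_zero_of_unit hs)
      (mem_perp₂.2 ⟨hwr, hwe⟩)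
    rw [hc, (stdHerm hF 3).smul_left, hs, mul_one] at hws
    rw [hws, zero_smul, hw] at hc
    have hexp : (stdHerm hF 3).h (f - (stdHerm hF 3).h f e • e - (stdHerm hF 3).h f r • r -
        (stdHerm hF 3).h f s • s) f = 0 := by rw [hc, HermSpace.zero_left]
    simp only [HermSpace.sub_left, (stdHerm hF 3).smul_left, hf, hN, hNr, h] at hexp
    exact two_ne_zero_of_odd hq hF (by linear_combination -hexp)
  obtain ⟨g, hg, hgs, hgf⟩ := exists_unit_perp finrank_std hs hf hNs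
  exact ⟨_, _, isInv_pt hq hF s hs, isInv_pt hq hF g hg, (perp s e hs he hse).symm,
    (perp g s hg hs hgs).symm, perp g f hg hf hgf⟩

/-- The involutions at distance two. -/
theorem card_dist_two {t : Cfsg.SU 3 F q} (ht : IsInv t) :
    Nat.card {x : Cfsg.SU 3 F q // x ≠ 1 ∧ x * x = 1 ∧ ¬ Commute t x ∧
      ∃ y : Cfsg.SU 3 F q, y ≠ 1 ∧ y * y = 1 ∧ Commute t y ∧ Commute y x} =
      q * (q - 2) * (q ^ 2 - 1) := by
  classical
  have : Fintype (Cfsg.SU 3 F q) := Fintype.ofFinite _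
  let A := {y : Cfsg.SU 3 F q // IsInv y ∧ y ≠ t ∧ Commute t y}
  have hfib : ∀ y : A, Nat.card {x : Cfsg.SU 3 F q // IsInv x ∧ Commute y.1 x ∧ ¬ Commute t x} =
      q * (q - 1) - 2 := by
    rintro ⟨y, hy, hyt, hty⟩
    obtain ⟨z, hz, huniq⟩ := exists_unique_third hq hF ht hy hyt hty
    have h := card_commute hq hF hy
    rw [Nat.card_eq_fintype_card, Fintype.card_subtype] at h ⊢
    have e : (Finset.univ.filter fun x => IsInv x ∧ Commute y x ∧ ¬ Commute t x) =
        (Finset.univ.filter fun x => IsInv x ∧ x ≠ y ∧ Commute y x) \ {t, z} := by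
      ext x
      simp only [Finset.mem_sdiff, Finset.mem_filter, Finset.mem_univ, true_and, Finset.mem_insert,
        Finset.mem_singleton, not_or]
      constructor
      · rintro ⟨h1, h2, h3⟩
        exact ⟨⟨h1, fun e => h3 (e ▸ hty), h2⟩, fun e => h3 (e ▸ Commute.refl _),
          fun e => h3 (e ▸ hz.2.2.2.1)⟩
      · rintro ⟨⟨h1, h2, h3⟩, h4, h5⟩
        exact ⟨h1, h3, fun h6 => h5 (huniq x h1 h4 h2 h6 h3)⟩
    rw [e, Finset.card_sdiff_of_subset, h, Finset.card_pair (Ne.symm hz.2.1)]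
    intro x hx
    simp only [Finset.mem_insert, Finset.mem_singleton] at hx
    simp only [Finset.mem_filter, Finset.mem_univ, true_and]
    rcases hx with rfl | rfl
    · exact ⟨ht, Ne.symm hyt, hty.symm⟩
    · exact ⟨hz.1, hz.2.2.1, hz.2.2.2.2⟩
  have e1 : (Σ y : A, {x : Cfsg.SU 3 F q // IsInv x ∧ Commute y.1 x ∧ ¬ Commute t x}) ≃
      {x : Cfsg.SU 3 F q // x ≠ 1 ∧ x * x = 1 ∧ ¬ Commute t x ∧
        ∃ y : Cfsg.SU 3 F q, y ≠ 1 ∧ y * y = 1 ∧ Commute t y ∧ Commute y x} := by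
    refine Equiv.ofBijective (fun p => ⟨p.2.1, p.2.2.1.1, p.2.2.1.2, p.2.2.2.2,
      p.1.1, p.1.2.1.1, p.1.2.1.2, p.1.2.2.2, p.2.2.2.1⟩) ⟨?_, ?_⟩
    · rintro ⟨⟨y, hy⟩, x, hx⟩ ⟨⟨y', hy'⟩, x', hx'⟩ h
      obtain rfl : x = x' := congrArg Subtype.val h
      obtain rfl : y = y' := neighbour_unique hq hF ht hx.1 hx.2.2 hy.1 hy'.1 hy.2.2 hx.2.1 hy'.2.2 hx'.2.1
      rfl
    · rintro ⟨x, h1, h2, h3, y, hy1, hy2, hy3, hy4⟩
      exact ⟨⟨⟨y, ⟨hy1, hy2⟩, fun e => h3 (e ▸ hy4), hy3⟩, ⟨x, ⟨h1, h2⟩, hy4, h3⟩⟩, rfl⟩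
  rw [← Nat.card_congr e1, Nat.card_sigma, Finset.sum_congr rfl fun y _ => hfib y, Finset.sum_const,
    Finset.card_univ, ← Nat.card_eq_fintype_card, smul_eq_mul]
  show Nat.card {y : Cfsg.SU 3 F q // IsInv y ∧ y ≠ t ∧ Commute t y} * _ = _
  rw [card_commute hq hF ht]
  have hq2 := two_le_of_card hF
  obtain ⟨k, rfl⟩ : ∃ k, q = k + 2 := ⟨q - 2, by omega⟩
  have h1 : 2 ≤ (k + 2) * (k + 2 - 1) := le_trans hq2 (Nat.le_mul_of_pos_right _ (by omega))
  have h3 : 1 ≤ k + 2 := by omega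
  have h4 : 1 ≤ (k + 2) ^ 2 := Nat.one_le_pow _ _ (by omega)
  rw [Nat.add_sub_cancel]
  zify [h1, h3, h4]
  ring

/-- The involutions at distance three. -/
theorem card_dist_three {t : Cfsg.SU 3 F q} (ht : IsInv t) :
    Nat.card {x : Cfsg.SU 3 F q // x ≠ 1 ∧ x * x = 1 ∧ ¬ Commute t x ∧
      ∀ y : Cfsg.SU 3 F q, y ≠ 1 → y * y = 1 → ¬ (Commute t y ∧ Commute y x)} =
      (q + 1) * (q ^ 2 - 1) := by
  classical
  have : Fintype (Cfsg.SU 3 F q) := Fintype.ofFinite _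
  have hI := card_inv hq hF
  have hA := card_commute hq hF ht
  have hB := card_dist_two hq hF ht
  simp only [IsInv] at hI hA
  rw [Nat.card_eq_fintype_card, Fintype.card_subtype] at hI hA hB ⊢
  set I := Finset.univ.filter fun x : Cfsg.SU 3 F q => x ≠ 1 ∧ x * x = 1 with hIdef
  set P : Cfsg.SU 3 F q → Prop :=
    fun x => ∃ y : Cfsg.SU 3 F q, y ≠ 1 ∧ y * y = 1 ∧ Commute t y ∧ Commute y x with hP
  have s1 := Finset.card_filter_add_card_filter_not (s := I) (fun x => Commute t x)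
  have s2 := Finset.card_filter_add_card_filter_not (s := I.filter fun x => ¬ Commute t x) P
  have eA : I.filter (fun x => Commute t x) = insert t
      (Finset.univ.filter fun x => (x ≠ 1 ∧ x * x = 1) ∧ x ≠ t ∧ Commute t x) := by
    ext x
    simp only [I, Finset.mem_filter, Finset.mem_univ, true_and, Finset.mem_insert]
    constructor
    · intro h
      by_cases hxt : x = t
      · exact Or.inl hxt
      · exact Or.inr ⟨h.1, hxt, h.2⟩
    · rintro (rfl | h)
      · exact ⟨ht, Commute.refl _⟩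
      · exact ⟨h.1, h.2.2⟩
  rw [eA, Finset.card_insert_of_notMem (by simp), hA] at s1
  have eB : (I.filter fun x => ¬ Commute t x).filter P = Finset.univ.filter
      (fun x => x ≠ 1 ∧ x * x = 1 ∧ ¬ Commute t x ∧ P x) := by
    ext x; simp [I, and_assoc]
  have eC : ((I.filter fun x => ¬ Commute t x).filter fun x => ¬ P x) = Finset.univ.filter
      (fun x => x ≠ 1 ∧ x * x = 1 ∧ ¬ Commute t x ∧
        ∀ y : Cfsg.SU 3 F q, y ≠ 1 → y * y = 1 → ¬ (Commute t y ∧ Commute y x)) := by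
    ext x
    simp only [I, P, Finset.mem_filter, Finset.mem_univ, true_and, and_assoc, not_exists, not_and]
  rw [eB, eC, hB] at s2
  rw [← s2, hI] at s1
  have hq2 := two_le_of_card hF
  have h1 : 1 ≤ q ^ 2 := Nat.one_le_pow _ _ (by omega)
  have h2 := Nat.le_self_pow (two_ne_zero (α := ℕ)) q
  have h3 : 1 ≤ q := by omega
  generalize (Finset.univ.filter (fun x : Cfsg.SU 3 F q => x ≠ 1 ∧ x * x = 1 ∧ ¬ Commute t x ∧
    ∀ y : Cfsg.SU 3 F q, y ≠ 1 → y * y = 1 → ¬ (Commute t y ∧ Commute y x))).card = C at s1 ⊢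
  zify [h1, h2, h3, hq2] at s1 ⊢
  linear_combination s1

end CfsgLib.UnitaryPoints
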