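import Cfsg.Agent.Lib.UnitaryPoints.Basic
import Mathlib.GroupTheory.GroupAction.ConjAct
import Mathlib.GroupTheory.GroupAction.Quotient

/-!
Counting involutions of `SU₃(q)`, `q` odd.
-/

set_option autoImplicit false

namespace CfsgLib.UnitaryPoints

open Module CfsgLib.Classical.Herm HermSpace

variable {F : Type*} [Field F] [Fintype F] {q : ℕ}

theorem two_ne_zero_of_odd (hq : Odd q) (hF : Fintype.card F = q ^ 2) : (2 : F) ≠ 0 := by
  refine Ring.two_ne_zero fun h => ?_
  rw [FiniteField.even_card_iff_char_two, hF, Nat.pow_mod, Nat.odd_iff.1 hq] at h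
  omega

theorem finrank_std : finrank F (Fin 3 → F) = 3 := Module.finrank_fin_fun F

/-- The involution of `SU₃` at a unit vector. -/
noncomputable def pt (hF : Fintype.card F = q ^ 2) (e : Fin 3 → F)
    (he : (stdHerm hF 3).h e e = 1) : Cfsg.SU 3 F q :=
  (suEquiv hF 3).symm ⟨ref e he, detHom_ref finrank_std he⟩

theorem pt_val (hF : Fintype.card F = q ^ 2) (e : Fin 3 → F) (he : (stdHerm hF 3).h e e = 1) :
    ((suEquiv hF 3 (pt hF e he)).1) = ref e he := by
  rw [pt, MulEquiv.apply_symm_apply]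

theorem su_ext (hF : Fintype.card F = q ^ 2) {s s' : Cfsg.SU 3 F q}
    (h : (suEquiv hF 3 s).1 = (suEquiv hF 3 s').1) : s = s' :=
  (suEquiv hF 3).injective (Subtype.ext h)

/-- An involution. -/
def IsInv (s : Cfsg.SU 3 F q) : Prop := s ≠ 1 ∧ s * s = 1

variable (hq : Odd q) (hF : Fintype.card F = q ^ 2)
include hq hF

theorem isInv_pt (e : Fin 3 → F) (he : (stdHerm hF 3).h e e = 1) : IsInv (pt hF e he) := by
  refine ⟨fun h => ref_ne_one (two_ne_zero_of_odd hq hF) finrank_std he ?_, su_ext hF ?_⟩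
  · rw [← pt_val hF e he, h, map_one, OneMemClass.coe_one]
  · rw [map_mul, map_one, Subgroup.coe_mul, pt_val, ref_mul_self, OneMemClass.coe_one]

theorem exists_pt {s : Cfsg.SU 3 F q} (hs : IsInv s) :
    ∃ (e : Fin 3 → F) (he : (stdHerm hF 3).h e e = 1), s = pt hF e he := by
  obtain ⟨e, he, h⟩ := exists_ref (two_ne_zero_of_odd hq hF) finrank_std _ (suEquiv hF 3 s).2
    (fun h => hs.1 (su_ext hF (by rw [h, map_one, OneMemClass.coe_one])))
    (by rw [← Subgroup.coe_mul, ← map_mul, hs.2, map_one, OneMemClass.coe_one])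
  exact ⟨e, he, su_ext hF (by rw [h, pt_val])⟩

theorem pt_eq_iff (e f : Fin 3 → F) (he : (stdHerm hF 3).h e e = 1) (hf : (stdHerm hF 3).h f f = 1) :
    pt hF e he = pt hF f hf ↔ ∃ c : F, c * (stdHerm hF 3).conj c = 1 ∧ f = c • e := by
  rw [← ref_eq_iff (two_ne_zero_of_odd hq hF) he hf]
  exact ⟨fun h => by rw [← pt_val hF e he, h, pt_val], fun h => su_ext hF (by rw [pt_val, pt_val, h])⟩

theorem pt_commute_iff (e f : Fin 3 → F) (he : (stdHerm hF 3).h e e = 1)
    (hf : (stdHerm hF 3).h f f = 1) :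
    Commute (pt hF e he) (pt hF f hf) ↔ pt hF e he = pt hF f hf ∨ (stdHerm hF 3).h e f = 0 := by
  have h := commute_iff (two_ne_zero_of_odd hq hF) he hf
  constructor
  · intro hc
    refine (h.1 ?_).imp (fun h' => su_ext hF (by rw [pt_val, pt_val, h'])) id
    have h' := congrArg (fun s => ((suEquiv hF 3 s).1)) hc.eq
    simp only [map_mul, Subgroup.coe_mul, pt_val] at h'
    exact h'
  · intro h'
    have h'' : Commute (ref e he) (ref f hf) :=
      h.2 (h'.imp (fun h1 => by rw [← pt_val hF e he, h1, pt_val]) id)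
    refine su_ext hF ?_
    simp only [map_mul, Subgroup.coe_mul, pt_val]
    exact h''.eq

omit hq in
theorem conj_apply (c : F) : (stdHerm hF 3).conj c = c ^ q := rfl

theorem pt_ne_of_perp {e f : Fin 3 → F} (he : (stdHerm hF 3).h e e = 1)
    (hf : (stdHerm hF 3).h f f = 1) (h : (stdHerm hF 3).h e f = 0) : pt hF e he ≠ pt hF f hf := by
  intro h'
  obtain ⟨c, hc, rfl⟩ := (pt_eq_iff hq hF e f he hf).1 h'
  rw [(stdHerm hF 3).smul_right, he, mul_one] at h
  rw [h, mul_zero] at hc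
  exact zero_ne_one hc

/-- All involutions are conjugate. -/
theorem exists_conj {s s' : Cfsg.SU 3 F q} (hs : IsInv s) (hs' : IsInv s') :
    ∃ g : Cfsg.SU 3 F q, g * s * g⁻¹ = s' := by
  obtain ⟨e, he, rfl⟩ := exists_pt hq hF hs
  obtain ⟨f, hf, rfl⟩ := exists_pt hq hF hs'
  obtain ⟨g, hg⟩ := exists_map_norm_one he hf
  -- correct the determinant by a quasi-reflection at `f`
  obtain ⟨δ, hδ⟩ : ∃ δ : F, δ = ((detHom (stdHerm hF 3) g)⁻¹ : Fˣ) := ⟨_, rfl⟩
  have hn : δ * (stdHerm hF 3).conj δ = 1 := by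
    have := MonoidHom.mem_ker.1 (inv_mem (detHom_normOne hF 3 g))
    rw [powMonoidHom_apply] at this
    rw [conj_apply, hδ, ← pow_succ', ← Units.val_pow_eq_pow_val, this, Units.val_one]
  have hc : ShearCond (stdHerm hF 3) f (δ - 1) := by
    unfold ShearCond
    rw [hf, map_sub, map_one]
    linear_combination hn
  let g' := shear (stdHerm hF 3) f (δ - 1) hc * g
  have hg' : detHom (stdHerm hF 3) g' = 1 := by
    apply Units.ext
    rw [map_mul, Units.val_mul, detHom_shear, hf, mul_one, add_sub_cancel, hδ, ← Units.val_mul,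
      inv_mul_cancel]
  refine ⟨(suEquiv hF 3).symm ⟨g', MonoidHom.mem_ker.2 hg'⟩, su_ext hF ?_⟩
  rw [map_mul, map_mul, map_inv, Subgroup.coe_mul, Subgroup.coe_mul, Subgroup.coe_inv,
    MulEquiv.apply_symm_apply, pt_val, pt_val, ref_conj]
  refine (ref_eq_iff (two_ne_zero_of_odd hq hF) _ hf).2 ⟨((stdHerm hF 3).conj δ), ?_, ?_⟩
  · rw [(stdHerm hF 3).conj_conj]
    linear_combination hn
  · show f = _ • g'.1 e
    rw [mul_apply, hg, shear_apply, hf, mul_one, sub_smul, one_smul, add_sub_cancel, smul_smul,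
      mul_comm, hn, one_smul]

omit hq in
theorem card_normOne : Nat.card {c : F // c * (stdHerm hF 3).conj c = 1} = q + 1 := by
  rw [← card_normOne_units hF]
  refine Nat.card_congr
    { toFun := fun c => ⟨Units.mk0 c.1 (fun h => by simpa [h] using c.2), ?_⟩
      invFun := fun u => ⟨(u.1 : F), ?_⟩
      left_inv := fun c => Subtype.ext rfl
      right_inv := fun u => Subtype.ext (Units.ext rfl) }
  · rw [MonoidHom.mem_ker, powMonoidHom_apply]
    apply Units.ext
    rw [Units.val_pow_eq_pow_val, Units.val_mk0, pow_succ', Units.val_one]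
    exact c.2
  · have := MonoidHom.mem_ker.1 u.2
    rw [powMonoidHom_apply] at this
    show (u.1 : F) * (u.1 : F) ^ q = 1
    rw [← pow_succ', ← Units.val_pow_eq_pow_val, this, Units.val_one]

/-- Each involution comes from `q + 1` unit vectors. -/
theorem card_mul_succ (P : Cfsg.SU 3 F q → Prop) :
    Nat.card {s : Cfsg.SU 3 F q // IsInv s ∧ P s} * (q + 1) =
      Nat.card {v : Fin 3 → F // ∃ hv : (stdHerm hF 3).h v v = 1, P (pt hF v hv)} := by
  rw [← card_normOne hF, ← Nat.card_prod]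
  have hex : ∀ s : {s : Cfsg.SU 3 F q // IsInv s ∧ P s},
      ∃ (e : Fin 3 → F) (he : (stdHerm hF 3).h e e = 1), s.1 = pt hF e he := fun s => exists_pt hq hF s.2.1
  choose e he hse using hex
  have hmem : ∀ (s : {s : Cfsg.SU 3 F q // IsInv s ∧ P s})
      (c : {c : F // c * (stdHerm hF 3).conj c = 1}),
      ∃ hv : (stdHerm hF 3).h (c.1 • e s) (c.1 • e s) = 1, pt hF _ hv = s.1 := fun s c =>
    ⟨by rw [smul_h_smul (he s)]; exact c.2, by
      rw [hse s]
      exact ((pt_eq_iff hq hF _ _ _ _).2 ⟨c.1, c.2, rfl⟩).symm⟩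
  refine Nat.card_eq_of_bijective (fun sc => ⟨sc.2.1 • e sc.1, by
    obtain ⟨hv, h⟩ := hmem sc.1 sc.2
    exact ⟨hv, h.symm ▸ sc.1.2.2⟩⟩) ⟨?_, ?_⟩
  · rintro ⟨s, c⟩ ⟨s', c'⟩ h
    have h1 : c.1 • e s = c'.1 • e s' := congrArg Subtype.val h
    obtain ⟨hv, h2⟩ := hmem s c
    obtain ⟨hv', h3⟩ := hmem s' c'
    have hss : s = s' := Subtype.ext (by rw [← h2, ← h3]; congr 1)
    subst hss
    exact Prod.ext rfl (Subtype.ext (smul_left_injective F (ne_zero_of_unit (he s)) h1))
  · rintro ⟨v, hv, hP⟩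
    obtain ⟨c, hc, hvc⟩ := (pt_eq_iff hq hF _ v (he ⟨_, isInv_pt hq hF v hv, hP⟩) hv).1 (hse _).symm
    exact ⟨⟨⟨_, isInv_pt hq hF v hv, hP⟩, ⟨c, hc⟩⟩, Subtype.ext hvc.symm⟩

theorem card_inv : Nat.card {s : Cfsg.SU 3 F q // IsInv s} = q ^ 2 * (q ^ 2 - q + 1) := by
  refine Nat.eq_of_mul_eq_mul_right (Nat.succ_pos q) ?_
  rw [Nat.card_congr (Equiv.subtypeEquivRight fun s => (iff_of_eq (and_true (IsInv s))).symm),
    card_mul_succ hq hF fun _ => True]
  show _ = q ^ 2 * (q ^ 2 - q + 1) * (q + 1)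
  rw [show Nat.card {v : Fin 3 → F // ∃ _ : (stdHerm hF 3).h v v = 1, True} = levelCount 3 F q 1 from
    Nat.card_congr (Equiv.subtypeEquivRight fun v => exists_prop.trans (iff_of_eq (and_true _)))]
  rw [levelCount_one_succ hF 2, if_pos even_two]
  have h := Nat.le_self_pow (two_ne_zero (α := ℕ)) q
  zify [h]
  ring

/-- The involutions commuting with a given one. -/
theorem card_commute {t : Cfsg.SU 3 F q} (ht : IsInv t) :
    Nat.card {s : Cfsg.SU 3 F q // IsInv s ∧ s ≠ t ∧ Commute t s} = q * (q - 1) := by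
  obtain ⟨e, he, rfl⟩ := exists_pt hq hF ht
  refine Nat.eq_of_mul_eq_mul_right (Nat.succ_pos q) ?_
  rw [card_mul_succ hq hF fun s => s ≠ pt hF e he ∧ Commute (pt hF e he) s]
  show _ = q * (q - 1) * (q + 1)
  have e1 : {v : Fin 3 → F // ∃ hv : (stdHerm hF 3).h v v = 1,
      pt hF v hv ≠ pt hF e he ∧ Commute (pt hF e he) (pt hF v hv)} ≃
      {v : Fin 3 → F // (stdHerm hF 3).h v v = 1 ∧ (stdHerm hF 3).h e v = 0} := by
    refine Equiv.subtypeEquivRight fun v => ?_
    constructor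
    · rintro ⟨hv, hne, hc⟩
      exact ⟨hv, ((pt_commute_iff hq hF e v he hv).1 hc).resolve_left (Ne.symm hne)⟩
    · rintro ⟨hv, h⟩
      exact ⟨hv, (pt_ne_of_perp hq hF he hv h).symm, (pt_commute_iff hq hF e v he hv).2 (Or.inr h)⟩
  have hq0 : q ≠ 0 := by have := two_le_of_card hF; omega
  set e₀ : Fin 3 → F := Fin.cons 1 0 with he₀
  have hee : (stdHerm hF 3).h e₀ e₀ = 1 := by
    rw [stdHerm_h, he₀, hermForm_cons]; simp [Cfsg.hermForm]
  obtain ⟨g, hg⟩ := exists_map_norm_one he hee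
  have e2 : {v : Fin 3 → F // (stdHerm hF 3).h v v = 1 ∧ (stdHerm hF 3).h e v = 0} ≃
      {v : Fin 3 → F // (stdHerm hF 3).h v v = 1 ∧ (stdHerm hF 3).h e₀ v = 0} :=
    g.1.toEquiv.subtypeEquiv fun v => by
      show _ ↔ (stdHerm hF 3).h (g.1 v) (g.1 v) = 1 ∧ (stdHerm hF 3).h e₀ (g.1 v) = 0
      rw [← hg, unit_h, unit_h]
  have h0 : ∀ v : Fin 3 → F, (stdHerm hF 3).h e₀ v = (v 0) ^ q := fun v => by
    rw [stdHerm_h, Cfsg.hermForm, Fin.sum_univ_succ, he₀]
    simp
  have e3 : {v : Fin 3 → F // (stdHerm hF 3).h v v = 1 ∧ (stdHerm hF 3).h e₀ v = 0} ≃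
      {v : Fin 2 → F // Cfsg.hermForm 2 F q v v = 1} :=
    { toFun := fun v => ⟨Fin.tail v.1, by
        have h := v.2.1
        have hv0 : v.1 0 = 0 := (pow_eq_zero_iff hq0).1 ((h0 _).symm.trans v.2.2)
        rw [stdHerm_h, ← Fin.cons_self_tail v.1, hermForm_cons, hv0, zero_mul, zero_add] at h
        exact h⟩
      invFun := fun w => ⟨Fin.cons 0 w.1,
        by rw [stdHerm_h, hermForm_cons, zero_mul, zero_add, w.2],
        by rw [h0, Fin.cons_zero, zero_pow hq0]⟩
      left_inv := fun v => Subtype.ext (by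
        have hv0 : v.1 0 = 0 := (pow_eq_zero_iff hq0).1 ((h0 _).symm.trans v.2.2)
        show Fin.cons 0 (Fin.tail v.1) = v.1
        conv_rhs => rw [← Fin.cons_self_tail v.1, hv0])
      right_inv := fun w => Subtype.ext (Fin.tail_cons (α := fun _ => F) 0 w.1) }
  rw [Nat.card_congr ((e1.trans e2).trans e3)]
  show levelCount 2 F q 1 = _
  rw [levelCount_one_succ hF 1, if_neg (by decide), pow_one, sq]
  rw [mul_assoc, ← Nat.sq_sub_sq q 1 |>.trans (mul_comm _ _), one_pow, sq]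

/-- The order of the centraliser of an involution. -/
theorem card_centralizer {t : Cfsg.SU 3 F q} (ht : IsInv t) :
    Nat.card (Subgroup.centralizer ({t} : Set (Cfsg.SU 3 F q))) = q * (q + 1) * (q ^ 2 - 1) := by
  classical
  have : Fintype (Cfsg.SU 3 F q) := Fintype.ofFinite _
  have horb : MulAction.orbit (ConjAct (Cfsg.SU 3 F q)) t = {s | IsInv s} := by
    ext s
    constructor
    · rintro ⟨g, rfl⟩
      show IsInv (g • t)
      rw [ConjAct.smul_def]
      exact ⟨fun h => ht.1 (by simpa using h), by rw [conj_mul, ht.2, mul_one, mul_inv_cancel]⟩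
    · intro hs
      obtain ⟨g, hg⟩ := exists_conj hq hF ht hs
      exact ⟨ConjAct.toConjAct g, hg⟩
  have h := Nat.card_congr (MulAction.orbitProdStabilizerEquivGroup (ConjAct (Cfsg.SU 3 F q)) t)
  rw [Nat.card_prod, horb] at h
  have hst : Nat.card (MulAction.stabilizer (ConjAct (Cfsg.SU 3 F q)) t) =
      Nat.card (Subgroup.centralizer ({t} : Set (Cfsg.SU 3 F q))) := by
    rw [Subgroup.centralizer_eq_comap_stabilizer]
    exact (Nat.card_congr (Equiv.subtypeEquiv ConjAct.toConjAct.toEquiv fun _ => Iff.rfl)).symm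
  rw [hst] at h
  have hI : Nat.card ({s | IsInv s} : Set (Cfsg.SU 3 F q)) = q ^ 2 * (q ^ 2 - q + 1) := card_inv hq hF
  rw [hI, Nat.card_congr ConjAct.ofConjAct.toEquiv] at h
  have hq2 := two_le_of_card hF
  have hG := card_unit_eq_mul_su hF (n := 3) (by norm_num)
  rw [← h, card_unit hF 3, Finset.prod_range_succ, Finset.prod_range_succ, Finset.prod_range_one,
    if_pos Even.zero, if_neg (by decide), if_pos even_two] at hG
  have hc : 0 < (q + 1) * (q ^ 2 * (q ^ 2 - q + 1)) := by positivity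
  refine Nat.eq_of_mul_eq_mul_left hc ?_
  rw [mul_assoc, hG]
  have h1 := Nat.le_self_pow (two_ne_zero (α := ℕ)) q
  have h2 : 1 ≤ q ^ 2 := Nat.one_le_pow _ _ (by omega)
  zify [h1, h2]
  ring

end CfsgLib.UnitaryPoints
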